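-- Team project OTS (S5972), package [OW]: the algebraic core (helper27).
-- Orthogonal analogue of Helper40.SympWall.symp_sqrt for elements of odd order.
import Mathlib
import Cfsg.Agent.Lib.Helper40.SympWall
import Cfsg.Agent.Lib.Helper40.RingNorm

set_option autoImplicit false
set_option linter.unusedSectionVars false
open Matrix

namespace Cfsg.Agent.Lib.Helper27.OTS

open Polynomial Cfsg.Agent.Lib.Helper40.RingNorm

universe u

section adj

variable {F : Type u} [Field F] {ι : Type} [Fintype ι] [DecidableEq ι]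

/-- The adjoint for the symmetric invertible matrix `M` with inverse `Mi`. -/
def adjM (M Mi : Matrix ι ι F) (c : Matrix ι ι F) : Matrix ι ι F := Mi * cᵀ * M

variable {M Mi : Matrix ι ι F}

theorem adjM_mul (h1 : M * Mi = 1) (a b : Matrix ι ι F) :
    adjM M Mi (a * b) = adjM M Mi b * adjM M Mi a := by
  unfold adjM
  have : Mi * bᵀ * M * (Mi * aᵀ * M) = Mi * bᵀ * (M * Mi) * aᵀ * M := by
    simp only [Matrix.mul_assoc]
  rw [this, h1, Matrix.mul_one, Matrix.transpose_mul]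
  simp only [Matrix.mul_assoc]

theorem adjM_one (h2 : Mi * M = 1) : adjM M Mi (1 : Matrix ι ι F) = 1 := by
  unfold adjM
  rw [Matrix.transpose_one, Matrix.mul_one, h2]

theorem adjM_add (a b : Matrix ι ι F) : adjM M Mi (a + b) = adjM M Mi a + adjM M Mi b := by
  unfold adjM
  rw [Matrix.transpose_add, Matrix.mul_add, Matrix.add_mul]

theorem adjM_adjM (h2 : Mi * M = 1) (hM : Mᵀ = M) (hMi : Miᵀ = Mi) (c : Matrix ι ι F) :
    adjM M Mi (adjM M Mi c) = c := by
  unfold adjM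
  rw [Matrix.transpose_mul, Matrix.transpose_mul, Matrix.transpose_transpose, hM, hMi]
  calc Mi * (M * (c * Mi)) * M = (Mi * M) * c * (Mi * M) := by simp only [Matrix.mul_assoc]
    _ = c := by rw [h2, Matrix.one_mul, Matrix.mul_one]

theorem adjM_form (h1 : M * Mi = 1) (a : Matrix ι ι F) (u v : ι → F) :
    (a *ᵥ u) ⬝ᵥ M *ᵥ v = u ⬝ᵥ M *ᵥ (adjM M Mi a *ᵥ v) := by
  unfold adjM
  have e : M * (Mi * aᵀ * M) = aᵀ * M := by
    calc M * (Mi * aᵀ * M) = (M * Mi) * aᵀ * M := by simp only [Matrix.mul_assoc]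
      _ = aᵀ * M := by rw [h1, Matrix.one_mul]
  rw [Matrix.mulVec_mulVec, e, ← Matrix.mulVec_mulVec, Matrix.dotProduct_mulVec u,
    Matrix.vecMul_transpose]

theorem smul_mem_bicomm' {S : Set (Matrix ι ι F)} (c : F) {a : Matrix ι ι F}
    (ha : a ∈ bicomm S) : c • a ∈ bicomm S := by
  rw [mem_bicomm] at ha ⊢
  intro d hd
  rw [Matrix.mul_smul, Matrix.smul_mul, ha d hd]

/-- The algebraic core of the orthogonal Wall theorem for odd order. -/
theorem wall_core [Finite F] (M Mi : Matrix ι ι F) (h1 : M * Mi = 1) (h2 : Mi * M = 1)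
    (hM : Mᵀ = M) (hMi : Miᵀ = Mi) (x y g g' : Matrix ι ι F) (k : ℕ) (hko : Odd k)
    (hk : (k : F) ≠ 0) (h2F : (2 : F) ≠ 0)
    (hx : adjM M Mi x * x = 1) (hy : adjM M Mi y * y = 1) (hxk : x ^ k = 1)
    (hgg' : g * g' = 1) (hg'g : g' * g = 1) (hgx : g * x = y * g) :
    ∃ φ ε ep w : Matrix ι ι F, adjM M Mi φ * φ = ε ∧ φ * x = y * φ ∧ φ * ε = φ ∧ ε * ε = ε ∧
      adjM M Mi ε = ε ∧ ε * x = x * ε ∧ ε + ep = 1 ∧ x * ep = ep ∧ φ * w = g * ε := by
  classical
  have adj_mul := adjM_mul (M := M) (Mi := Mi) h1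
  have adj_one := adjM_one (M := M) (Mi := Mi) h2
  have adj_add := adjM_add (M := M) (Mi := Mi)
  have adj_adj := adjM_adjM (M := M) (Mi := Mi) h2 hM hMi
  have hx' : x * adjM M Mi x = 1 := mul_eq_one_comm.mp hx
  have hy' : y * adjM M Mi y = 1 := mul_eq_one_comm.mp hy
  obtain ⟨s, hs⟩ : ∃ s : Matrix ι ι F, s = adjM M Mi g * g := ⟨_, rfl⟩
  obtain ⟨s', hs'⟩ : ∃ s' : Matrix ι ι F, s' = g' * adjM M Mi g' := ⟨_, rfl⟩
  have hadjs : adjM M Mi s = s := by rw [hs, adj_mul, adj_adj]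
  have hadjs' : adjM M Mi s' = s' := by rw [hs', adj_mul, adj_adj]
  have hss' : s * s' = 1 := by
    rw [hs, hs']
    calc adjM M Mi g * g * (g' * adjM M Mi g') = adjM M Mi g * (g * g') * adjM M Mi g' := by
          simp only [Matrix.mul_assoc]
      _ = adjM M Mi (g' * g) := by rw [hgg', Matrix.mul_one, adj_mul]
      _ = 1 := by rw [hg'g, adj_one]
  have hs's : s' * s = 1 := mul_eq_one_comm.mp hss'
  have h1' : adjM M Mi x * adjM M Mi g = adjM M Mi g * adjM M Mi y := by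
    rw [← adj_mul, ← adj_mul, hgx]
  have h2' : adjM M Mi g * y = x * adjM M Mi g := by
    calc adjM M Mi g * y = (x * adjM M Mi x) * adjM M Mi g * y := by rw [hx', Matrix.one_mul]
      _ = x * (adjM M Mi x * adjM M Mi g) * y := by simp only [Matrix.mul_assoc]
      _ = x * (adjM M Mi g * adjM M Mi y) * y := by rw [h1']
      _ = x * adjM M Mi g * (adjM M Mi y * y) := by simp only [Matrix.mul_assoc]
      _ = x * adjM M Mi g := by rw [hy, Matrix.mul_one]
  have hxs : x * s = s * x := by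
    rw [hs, ← Matrix.mul_assoc, ← h2', Matrix.mul_assoc, Matrix.mul_assoc, hgx]
  obtain ⟨S, hS⟩ : ∃ S : Set (Matrix ι ι F), S = {x, s} := ⟨_, rfl⟩
  have hmemS : ∀ a ∈ S, a = x ∨ a = s := by
    intro a ha
    rw [hS] at ha
    simpa using ha
  have hxS : x ∈ S := by rw [hS]; simp
  have hsS : s ∈ S := by rw [hS]; simp
  have hScomm : ∀ a ∈ S, ∀ b ∈ S, a * b = b * a := by
    intro a ha b hb
    rcases hmemS a ha with h | h <;> rcases hmemS b hb with h' | h' <;> rw [h, h']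
    · exact hxs
    · exact hxs.symm
  have hRc := bicomm_comm hScomm
  have hxR : x ∈ bicomm S := mem_bicomm_of_mem hxS
  have hsR : s ∈ bicomm S := mem_bicomm_of_mem hsS
  have hs'R : s' ∈ bicomm S := inv_mem_bicomm hsR hss' hs's
  have hτR : ∀ a ∈ bicomm S, adjM M Mi a ∈ bicomm S := by
    intro a ha
    refine tau_mem_bicomm (adjM M Mi) adj_mul ?_ ha
    intro d hd
    refine ⟨adjM M Mi d, ?_, adj_adj d⟩
    intro b hb
    rcases hmemS b hb with h | h
    · rw [h]
      have e1 : x * d = d * x := hd x hxS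
      have e2 : adjM M Mi d * adjM M Mi x = adjM M Mi x * adjM M Mi d := by
        rw [← adj_mul, ← adj_mul, e1]
      calc x * adjM M Mi d = x * adjM M Mi d * (adjM M Mi x * x) := by rw [hx, Matrix.mul_one]
        _ = x * (adjM M Mi d * adjM M Mi x) * x := by simp only [Matrix.mul_assoc]
        _ = x * (adjM M Mi x * adjM M Mi d) * x := by rw [e2]
        _ = (x * adjM M Mi x) * adjM M Mi d * x := by simp only [Matrix.mul_assoc]
        _ = adjM M Mi d * x := by rw [hx', Matrix.one_mul]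
    · rw [h]
      have e1 : s * d = d * s := hd s hsS
      have e2 : adjM M Mi d * adjM M Mi s = adjM M Mi s * adjM M Mi d := by
        rw [← adj_mul, ← adj_mul, e1]
      rw [hadjs] at e2
      exact e2.symm
  let _ : CommRing (bicomm S) := commRingOfComm (bicomm S) hRc
  let τ' : bicomm S →+* bicomm S :=
    { toFun := fun a => ⟨adjM M Mi a.1, hτR a.1 a.2⟩
      map_one' := Subtype.ext adj_one
      map_mul' := fun a b => Subtype.ext (by
        show adjM M Mi (a.1 * b.1) = adjM M Mi a.1 * adjM M Mi b.1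
        rw [adj_mul]; exact hRc _ (hτR _ b.2) _ (hτR _ a.2))
      map_zero' := Subtype.ext (by show adjM M Mi 0 = 0; simp [adjM])
      map_add' := fun a b => Subtype.ext (adj_add a.1 b.1) }
  have H1 : ∀ (N : ℕ) (e : bicomm S), ((⟨x, hxR⟩ : bicomm S) * ⟨x, hxR⟩ - 1) ^ N * e = 0 →
      ((⟨x, hxR⟩ : bicomm S) * ⟨x, hxR⟩ - 1) * e = 0 := by
    intro N e h
    have h' : (x * x - 1) ^ N * e.1 = 0 := congrArg Subtype.val h
    apply Subtype.ext
    show (x * x - 1) * e.1 = 0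
    rcases Nat.eq_zero_or_pos N with rfl | hN
    · rw [pow_zero, Matrix.one_mul] at h'
      rw [h', Matrix.mul_zero]
    · have h3 := Cfsg.Agent.Lib.Helper40.SympWall.aeval_root_of_pow x e.1 k hk hxk (X ^ 2 - 1) N
        hN.ne' (by simpa [pow_two] using h')
      simpa [pow_two] using h3
  have H2 : ∀ (N : ℕ) (e : bicomm S), ((⟨x, hxR⟩ : bicomm S) - 1) ^ N * e = 0 →
      ((⟨x, hxR⟩ : bicomm S) - 1) * e = 0 := by
    intro N e h
    have h' : (x - 1) ^ N * e.1 = 0 := congrArg Subtype.val h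
    apply Subtype.ext
    show (x - 1) * e.1 = 0
    rcases Nat.eq_zero_or_pos N with rfl | hN
    · rw [pow_zero, Matrix.one_mul] at h'
      rw [h', Matrix.mul_zero]
    · have h3 := Cfsg.Agent.Lib.Helper40.SympWall.aeval_root_of_pow x e.1 k hk hxk (X - 1) N
        hN.ne' (by simpa using h')
      simpa using h3
  have h2R : (1 : bicomm S) + 1 = 0 ∨ ∃ h : bicomm S, h + h = 1 := by
    right
    refine ⟨⟨(2⁻¹ : F) • (1 : Matrix ι ι F), smul_mem_bicomm' _ (bicomm S).one_mem⟩, ?_⟩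
    apply Subtype.ext
    show (2⁻¹ : F) • (1 : Matrix ι ι F) + (2⁻¹ : F) • 1 = 1
    rw [← add_smul, ← two_mul, mul_inv_cancel₀ h2F, one_smul]
  obtain ⟨ε, δ', ep, em, hεε, hτε, hδ, hpp, hτp, hgp, hmm, hτm, hgm, hεp, hεm, hpm, hsum⟩ :=
    Cfsg.Agent.Lib.Helper40.SympWall.comm_decomp τ' (fun a => Subtype.ext (adj_adj a.1))
      ⟨x, hxR⟩ ⟨adjM M Mi x, hτR x hxR⟩ (Subtype.ext hx') rfl H1 H2 h2R
  have hεε' : ε.1 * ε.1 = ε.1 := congrArg Subtype.val hεε
  have hτε' : adjM M Mi ε.1 = ε.1 := congrArg Subtype.val hτε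
  have hδ' : (x - adjM M Mi x) * δ'.1 = ε.1 := congrArg Subtype.val hδ
  have hgp' : x * ep.1 = ep.1 := congrArg Subtype.val hgp
  have hgm' : x * em.1 = -em.1 := congrArg Subtype.val hgm
  have hsum' : ε.1 + ep.1 + em.1 = 1 := congrArg Subtype.val hsum
  -- `em = 0` because `k` is odd
  have hem : em.1 = 0 := by
    have hpow : ∀ n : ℕ, x ^ n * em.1 = (-1 : F) ^ n • em.1 := by
      intro n
      induction n with
      | zero => simp
      | succ n ih =>
        rw [pow_succ, Matrix.mul_assoc, hgm', Matrix.mul_neg, ih, pow_succ, mul_neg_one, neg_smul]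
    have h := hpow k
    rw [hxk, Matrix.one_mul, hko.neg_one_pow, neg_one_smul] at h
    have h' : (2 : F) • em.1 = 0 := by
      rw [two_smul]
      nth_rewrite 1 [h]
      rw [neg_add_cancel]
    rcases smul_eq_zero.mp h' with h'' | h''
    · exact absurd h'' h2F
    · exact h''
  obtain ⟨u, huR, hu⟩ := ambient_norm (bicomm S) hRc (adjM M Mi) hτR adj_one adj_add adj_mul
    (fun a _ => adj_adj a) ε.1 x δ'.1 ε.2 hxR δ'.2 hεε' hτε' hδ' s' s hs'R hsR hs's hadjs'
  -- computations in the commutative ring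
  have hU : (⟨adjM M Mi u, hτR u huR⟩ : bicomm S) * ⟨u, huR⟩ * ε = ⟨s', hs'R⟩ * ε :=
    Subtype.ext hu
  have hSS : (⟨s, hsR⟩ : bicomm S) * ⟨s', hs'R⟩ = 1 := Subtype.ext hss'
  have e2 : ε * (⟨adjM M Mi u, hτR u huR⟩ : bicomm S) * ⟨s, hsR⟩ * ⟨u, huR⟩ * ε = ε := by
    linear_combination ((⟨s, hsR⟩ : bicomm S) * ε) * hU + (ε * ε) * hSS + hεε
  have e3 : ε.1 * adjM M Mi u * s * u * ε.1 = ε.1 := congrArg Subtype.val e2
  have e4 : (⟨u, huR⟩ : bicomm S) * ε * (⟨s, hsR⟩ * ⟨adjM M Mi u, hτR u huR⟩) = ε := by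
    linear_combination (⟨s, hsR⟩ : bicomm S) * hU + ε * hSS
  have e5 : u * ε.1 * (s * adjM M Mi u) = ε.1 := congrArg Subtype.val e4
  refine ⟨g * u * ε.1, ε.1, ep.1, s * adjM M Mi u, ?_, ?_, ?_, hεε', hτε', hRc _ ε.2 _ hxR, ?_,
    hgp', ?_⟩
  · rw [adj_mul, adj_mul, hτε']
    calc ε.1 * (adjM M Mi u * adjM M Mi g) * (g * u * ε.1)
        = ε.1 * adjM M Mi u * (adjM M Mi g * g) * u * ε.1 := by simp only [Matrix.mul_assoc]
      _ = ε.1 := by rw [← hs, e3]
  · have c1 : u * ε.1 * x = x * (u * ε.1) := hRc _ ((bicomm S).mul_mem huR ε.2) _ hxR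
    calc g * u * ε.1 * x = g * (u * ε.1 * x) := by simp only [Matrix.mul_assoc]
      _ = g * x * (u * ε.1) := by rw [c1, Matrix.mul_assoc]
      _ = y * (g * u * ε.1) := by rw [hgx]; simp only [Matrix.mul_assoc]
  · rw [Matrix.mul_assoc, hεε']
  · rw [← hsum', hem, add_zero]
  · calc g * u * ε.1 * (s * adjM M Mi u) = g * (u * ε.1 * (s * adjM M Mi u)) := by
          simp only [Matrix.mul_assoc]
      _ = g * ε.1 := by rw [e5]

end adj

end Cfsg.Agent.Lib.Helper27.OTS
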